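import Groth.Agent.ProTor.Tw
import Groth.Prelude.Def_ega3

/-!
Koszul complexes of powers mapping to the adic system.
-/

set_option autoImplicit false
set_option linter.style.haveILetI false
universe u

namespace Groth.Agent.ProTor

open CategoryTheory CategoryTheory.Limits Opposite

variable {A : Type u} [CommRing A]

lemma smul_top_map {M N : Type u} [AddCommGroup M] [Module A M] [AddCommGroup N] [Module A N] (J : Ideal A)
    (f : M →ₗ[A] N) {x : M} (hx : x ∈ J • (⊤ : Submodule A M)) : f x ∈ J • (⊤ : Submodule A N) := by
  have : f x ∈ Submodule.map f (J • ⊤) := Submodule.mem_map_of_mem hx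
  rw [Submodule.map_smul''] at this
  exact Submodule.smul_mono le_rfl le_top this

/-- the adic system of the ring, as complexes -/
noncomputable abbrev adicCx (I : Ideal A) : ℕᵒᵖ ⥤ DRing.Cx A :=
  CohIII.adicSystem I (ModuleCat.of A A) ⋙ HomologicalComplex.single (ModuleCat.{u} A) (ComplexShape.up ℤ) 0

lemma adicCx_kill (I : Ideal A) (n : ℕᵒᵖ) (i : ℤ) (r : A) (hr : r ∈ I ^ (n.unop + 1)) (y : ((adicCx I).obj n).X i) :
    r • y = 0 := by
  by_cases hi : i = 0
  · subst hi
    have key : ∀ q : (CohIII.adicSystem I (ModuleCat.of A A)).obj n, r • q = 0 := fun q => by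
      induction q using Submodule.Quotient.induction_on with
      | H x =>
        change Submodule.Quotient.mk (r • x) = 0
        rw [Submodule.Quotient.mk_eq_zero]
        exact Submodule.smul_mem_smul hr Submodule.mem_top
    let e := (HomologicalComplex.singleObjXSelf (ComplexShape.up ℤ) 0
      ((CohIII.adicSystem I (ModuleCat.of A A)).obj n)).toLinearEquiv
    refine e.injective ?_
    rw [map_smul, map_zero]
    exact key _
  · haveI := ModuleCat.subsingleton_of_isZero (M := ((adicCx I).obj n).X i)
      (HomologicalComplex.isZero_single_obj_X (ComplexShape.up ℤ) 0 _ i hi)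
    exact Subsingleton.elim _ _

/-- what we need to know of the Koszul system -/
structure KosData (I : Ideal A) (l : List A) where
  /-- the system -/
  G : ℕᵒᵖ ⥤ DRing.Cx A
  /-- the augmentation -/
  c : G ⟶ adicCx I
  /-- a lower bound -/
  a : ℤ
  bounded : ∀ n, DRing.VanishesOutside (G.obj n) a 0
  fp : ∀ n i, Module.Finite A ((G.obj n).X i) ∧ Module.Projective A ((G.obj n).X i)
  surj : ∀ n i, Function.Surjective ((c.app n).f i).hom
  small : ∀ n j : ℕ, ∃ (m : ℕ) (h : n ≤ m), ∀ (i : ℤ) (z : (G.obj (op m)).X i), ((c.app (op m)).f i).hom z = 0 →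
    ((G.map (homOfLE h).op).f i).hom z ∈ I ^ j • (⊤ : Submodule A ((G.obj (op n)).X i))
  null : ∀ (n : ℕᵒᵖ), ∀ f ∈ l, Nonempty (Homotopy (f ^ (n.unop + 1) • 𝟙 (G.obj n)) 0)

/-- the augmentation in the empty case -/
noncomputable def c₀ (I : Ideal A) :
    (Functor.const ℕᵒᵖ).obj (ModuleCat.of A A) ⟶ CohIII.adicSystem I (ModuleCat.of A A) :=
  NatTrans.ofOpSequence (fun n => ModuleCat.ofHom (Submodule.mkQ _)) (fun n => by
    simp [CohIII.adicSystem]
    rfl)

/-- the empty case -/
noncomputable def kosNil (I : Ideal A) : KosData I [] where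
  G := (Functor.const ℕᵒᵖ).obj (ModuleCat.of A A) ⋙ HomologicalComplex.single (ModuleCat.{u} A) (ComplexShape.up ℤ) 0
  c := Functor.whiskerRight (c₀ I) _
  a := 0
  bounded n i hi := HomologicalComplex.isZero_single_obj_X (ComplexShape.up ℤ) 0 _ i (by omega)
  fp n i := by
    by_cases hi : i = 0
    · subst hi
      let e := (HomologicalComplex.singleObjXSelf (ComplexShape.up ℤ) 0 (ModuleCat.of A A)).toLinearEquiv
      exact ⟨Module.Finite.equiv e.symm, Module.Projective.of_equiv e.symm⟩
    · haveI := ModuleCat.subsingleton_of_isZero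
        (HomologicalComplex.isZero_single_obj_X (ComplexShape.up ℤ) 0 (ModuleCat.of A A) i hi)
      exact ⟨inferInstanceAs (Module.Finite A
        (((HomologicalComplex.single (ModuleCat.{u} A) (ComplexShape.up ℤ) 0).obj (ModuleCat.of A A)).X i)),
        inferInstanceAs (Module.Projective A
        (((HomologicalComplex.single (ModuleCat.{u} A) (ComplexShape.up ℤ) 0).obj (ModuleCat.of A A)).X i))⟩
  surj n i := by
    refine (ModuleCat.epi_iff_surjective _).1 ?_
    by_cases hi : i = 0
    · subst hi
      haveI : Epi ((c₀ I).app n) := (ModuleCat.epi_iff_surjective _).2 (Submodule.mkQ_surjective _)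
      simp only [Functor.whiskerRight_app, HomologicalComplex.single_map_f_self]
      infer_instance
    · exact ⟨fun g h _ => (HomologicalComplex.isZero_single_obj_X (ComplexShape.up ℤ) 0 _ i hi).eq_of_src g h⟩
  small n j := by
    refine ⟨n + j, n.le_add_right j, fun i z hz => ?_⟩
    by_cases hi : i = 0
    · subst hi
      simp only [Functor.whiskerRight_app, HomologicalComplex.single_map_f_self] at hz
      let e := (HomologicalComplex.singleObjXSelf (ComplexShape.up ℤ) 0 (ModuleCat.of A A)).toLinearEquiv
      let e' := (HomologicalComplex.singleObjXSelf (ComplexShape.up ℤ) 0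
        ((CohIII.adicSystem I (ModuleCat.of A A)).obj (op (n + j)))).toLinearEquiv
      have hz' : e'.symm (Submodule.Quotient.mk (e z)) = 0 := hz
      have hmem : e z ∈ I ^ j • (⊤ : Submodule A A) := Submodule.smul_mono_left
        (Ideal.pow_le_pow_right (show j ≤ (op (n + j)).unop + 1 by simp only [unop_op]; omega)) ((Submodule.Quotient.mk_eq_zero _).1 (e'.symm.map_eq_zero_iff.1 hz'))
      have := smul_top_map (I ^ j) e.symm.toLinearMap hmem
      rw [LinearEquiv.coe_coe, e.symm_apply_apply] at this
      simpa using this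
    · haveI := ModuleCat.subsingleton_of_isZero
        (HomologicalComplex.isZero_single_obj_X (ComplexShape.up ℤ) 0 (ModuleCat.of A A) i hi)
      rw [Subsingleton.elim (α := ((HomologicalComplex.single (ModuleCat.{u} A) (ComplexShape.up ℤ) 0).obj
        (ModuleCat.of A A)).X i) z 0]
      simp
  null n f hf := absurd hf (by simp)

/-- one more generator -/
noncomputable def kosCons (I : Ideal A) (f : A) (hf : f ∈ I) {l : List A} (D : KosData I l) : KosData I (f :: l) :=
  have hpow : ∀ {m n : ℕᵒᵖ} (_ : m ⟶ n), f ^ (m.unop + 1) = f ^ (n.unop + 1) * f ^ (m.unop - n.unop) :=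
    fun {m n} h => by
      have := leOfHom h.unop
      rw [← pow_add]
      congr 1
      omega
  have hkill : ∀ (n : ℕᵒᵖ) i (x : (D.G.obj n).X i), f ^ (n.unop + 1) • ((D.c.app n).f i).hom x = 0 :=
    fun n i x => adicCx_kill I n i _ (Ideal.pow_mem_pow hf _) _
  { G :=
      { obj := fun n => tw (f ^ (n.unop + 1)) (D.G.obj n)
        map := fun {m n} h => twMap (hpow h) (D.G.map h)
        map_id := fun n => by
          simp only [D.G.map_id]
          exact twMap_id _ (by simp) _
        map_comp := fun {k m n} h h' => by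
          simp only [D.G.map_comp]
          refine twMap_comp (hpow h) (hpow h') _ ?_ _ _
          have := leOfHom h.unop
          have := leOfHom h'.unop
          rw [← pow_add]
          congr 1
          omega }
    c :=
      { app := fun n => twDesc (D.c.app n) (hkill n)
        naturality := fun m n h => HomologicalComplex.hom_ext _ _ fun i =>
          ModuleCat.hom_ext (LinearMap.ext fun z =>
            LinearMap.congr_fun (congrArg ModuleCat.Hom.hom
              (congrArg (fun g : D.G.obj m ⟶ (adicCx I).obj n => g.f i) (D.c.naturality h))) z.2) }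
    a := D.a - 1
    bounded := fun n i hi => by
      have h₁ := ModuleCat.subsingleton_of_isZero (D.bounded n (i + 1) (by omega))
      have h₂ : i < D.a ∨ 0 < i := by omega
      have h₃ := ModuleCat.subsingleton_of_isZero (D.bounded n i h₂)
      exact ModuleCat.isZero_of_subsingleton (ModuleCat.of A ((D.G.obj n).X (i + 1) × (D.G.obj n).X i))
    fp := fun n i => by
      have := (D.fp n i).1
      have := (D.fp n i).2
      have := (D.fp n (i + 1)).1
      have := (D.fp n (i + 1)).2
      exact ⟨inferInstanceAs (Module.Finite A ((D.G.obj n).X (i + 1) × (D.G.obj n).X i)),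
        inferInstanceAs (Module.Projective A ((D.G.obj n).X (i + 1) × (D.G.obj n).X i))⟩
    surj := fun n i y => by
      obtain ⟨x, hx⟩ := D.surj n i y
      exact ⟨((0 : (D.G.obj n).X (i + 1)), x), hx⟩
    small := fun n j => by
      obtain ⟨m, h, hm⟩ := D.small n j
      refine ⟨m + j, h.trans (m.le_add_right j), fun i z hz => ?_⟩
      let w := D.G.map (homOfLE (h.trans (m.le_add_right j))).op
      change (f ^ (m + j - n) • (w.f (i + 1)).hom z.1, (w.f i).hom z.2) ∈ _
      have h₁ : f ^ (m + j - n) • (w.f (i + 1)).hom z.1 ∈ I ^ j • (⊤ : Submodule A _) :=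
        Submodule.smul_mem_smul (Ideal.pow_le_pow_right (by omega) (Ideal.pow_mem_pow hf _)) Submodule.mem_top
      have h₂ : (w.f i).hom z.2 ∈ I ^ j • (⊤ : Submodule A _) := by
        have e : w = D.G.map (homOfLE (m.le_add_right j)).op ≫ D.G.map (homOfLE h).op := by
          rw [← D.G.map_comp]; rfl
        rw [e]
        refine hm i _ ?_
        have hn := LinearMap.congr_fun (congrArg ModuleCat.Hom.hom
          (congrArg (fun g : D.G.obj (op (m + j)) ⟶ (adicCx I).obj (op m) => g.f i)
            (D.c.naturality (homOfLE (m.le_add_right j)).op))) z.2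
        have hz' : ((D.c.app (op (m + j))).f i).hom z.2 = 0 := hz
        refine hn.trans ?_
        simp [hz']
      have := Submodule.add_mem _ (smul_top_map (I ^ j) (LinearMap.inl A _ ((D.G.obj (op n)).X i)) h₁)
        (smul_top_map (I ^ j) (LinearMap.inr A ((D.G.obj (op n)).X (i + 1)) _) h₂)
      rw [LinearMap.inl_apply, LinearMap.inr_apply, Prod.mk_add_mk, add_zero, zero_add] at this
      exact this
    null := fun n g hg => by
      rcases List.mem_cons.1 hg with rfl | hg
      · exact ⟨twHomotopy _ _⟩
      · exact (D.null n g hg).map twScalarHomotopy }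

/-- Koszul systems exist -/
lemma exists_kosData (I : Ideal A) : ∀ l : List A, (∀ f ∈ l, f ∈ I) → Nonempty (KosData I l)
  | [], _ => ⟨kosNil I⟩
  | f :: l, h => (exists_kosData I l fun g hg => h g (List.mem_cons_of_mem _ hg)).map
      (kosCons I f (h f List.mem_cons_self))

end Groth.Agent.ProTor
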