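import Groth.Agent.ProTor.Null
import Groth.Agent.ProTor.Kos
import Groth.Prelude.Def_DerCA
import Mathlib.RingTheory.Filtration
import Mathlib.Algebra.Homology.HomologicalComplexAbelian
import Mathlib.Algebra.Homology.DerivedCategory.ShortExact

/-!
A criterion for pro-isomorphisms of systems of bounded complexes of finite modules.
-/

set_option autoImplicit false
set_option linter.style.haveILetI false
universe u

namespace Groth.Agent.ProTor

open CategoryTheory CategoryTheory.Limits CategoryTheory.Pretriangulated Opposite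

attribute [local instance] HasDerivedCategory.standard

variable {A : Type u} [CommRing A]

/-- kernel of a map of complexes, on elements -/
noncomputable def kerCx {X Y : DRing.Cx A} (f : X ⟶ Y) : DRing.Cx A where
  X i := ModuleCat.of A (LinearMap.ker (f.f i).hom)
  d i j := ModuleCat.ofHom ((X.d i j).hom.restrict fun x (hx : x ∈ LinearMap.ker (f.f i).hom) => by
    have := LinearMap.congr_fun (congrArg ModuleCat.Hom.hom (f.comm i j)) x
    simp only [ModuleCat.hom_comp, LinearMap.comp_apply, LinearMap.mem_ker.1 hx, map_zero] at this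
    exact LinearMap.mem_ker.2 this.symm)
  shape i j h := ModuleCat.hom_ext (LinearMap.ext fun x => Subtype.ext (by
    change (X.d i j).hom x.1 = 0
    rw [X.shape i j h]; rfl))
  d_comp_d' i j k _ _ := ModuleCat.hom_ext (LinearMap.ext fun x => Subtype.ext (d_d X i j k x.1))

/-- inclusion of the kernel -/
noncomputable def kerι {X Y : DRing.Cx A} (f : X ⟶ Y) : kerCx f ⟶ X where
  f i := ModuleCat.ofHom (Submodule.subtype _)
  comm' i j _ := rfl

/-- functoriality of kernels -/
noncomputable def kerMap {X Y X' Y' : DRing.Cx A} (f : X ⟶ Y) (f' : X' ⟶ Y') (α : X ⟶ X') (β : Y ⟶ Y')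
    (h : α ≫ f' = f ≫ β) : kerCx f ⟶ kerCx f' where
  f i := ModuleCat.ofHom ((α.f i).hom.restrict fun x (hx : x ∈ LinearMap.ker (f.f i).hom) => by
    have := LinearMap.congr_fun (congrArg ModuleCat.Hom.hom (congrArg (fun g : X ⟶ Y' => g.f i) h)) x
    refine LinearMap.mem_ker.2 (this.trans ?_)
    simp [LinearMap.mem_ker.1 hx])
  comm' i j _ := ModuleCat.hom_ext (LinearMap.ext fun x => Subtype.ext
    (LinearMap.congr_fun (congrArg ModuleCat.Hom.hom (α.comm i j)) x.1))

/-- the short complex of a kernel -/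
noncomputable def kerSC {X Y : DRing.Cx A} (f : X ⟶ Y) : ShortComplex (DRing.Cx A) :=
  ShortComplex.mk (kerι f) f (HomologicalComplex.hom_ext _ _ fun _ =>
    ModuleCat.hom_ext (LinearMap.ext fun x => LinearMap.mem_ker.1 x.2))

lemma kerSC_shortExact {X Y : DRing.Cx A} (f : X ⟶ Y) (hf : ∀ i, Function.Surjective (f.f i).hom) :
    (kerSC f).ShortExact :=
  HomologicalComplex.shortExact_of_degreewise_shortExact _ fun i =>
    ShortComplex.ShortExact.mk' ((ShortComplex.moduleCat_exact_iff_range_eq_ker _).2 (Submodule.range_subtype _))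
      ((ModuleCat.mono_iff_injective _).2 Subtype.val_injective) ((ModuleCat.epi_iff_surjective _).2 (hf i))

variable {X Y : ℕᵒᵖ ⥤ DRing.Cx A} (a : X ⟶ Y)

/-- the kernel system -/
noncomputable def kerSystem : ℕᵒᵖ ⥤ DRing.Cx A where
  obj n := kerCx (a.app n)
  map {m n} h := kerMap (a.app m) (a.app n) (X.map h) (Y.map h) (a.naturality h)
  map_id n := HomologicalComplex.hom_ext _ _ fun i => ModuleCat.hom_ext (LinearMap.ext fun x =>
    Subtype.ext (by change ((X.map (𝟙 n)).f i).hom x.1 = x.1; rw [X.map_id]; rfl))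
  map_comp {k m n} h h' := HomologicalComplex.hom_ext _ _ fun i => ModuleCat.hom_ext (LinearMap.ext fun x =>
    Subtype.ext (by change ((X.map (h ≫ h')).f i).hom x.1 = _; rw [X.map_comp]; rfl))

/-- kernels of small maps form a system killing cohomology -/
lemma ghostSystem_kerSystem [IsNoetherianRing A] (I : Ideal A)
    (hfin : ∀ n i, Module.Finite A ((X.obj n).X i))
    (hann : ∀ n, ∃ N : ℕ, ∀ i, ∀ z : (X.obj n).X i, ((X.obj n).d i (i + 1)).hom z = 0 → ∀ r ∈ I ^ N,
      r • z ∈ LinearMap.range ((X.obj n).d (i - 1) i).hom)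
    (hsmall : ∀ n j : ℕ, ∃ (m : ℕ) (h : n ≤ m), ∀ (i : ℤ) (z : (X.obj (op m)).X i),
      ((a.app (op m)).f i).hom z = 0 →
        ((X.map (homOfLE h).op).f i).hom z ∈ I ^ j • (⊤ : Submodule A ((X.obj (op n)).X i)))
    (hbig : ∀ (n : ℕ) (i : ℤ), I ^ (n + 1) • (⊤ : Submodule A ((X.obj (op n)).X i)) ≤
      LinearMap.ker ((a.app (op n)).f i).hom) :
    GhostSystem (kerSystem a) := by
  intro i n
  obtain ⟨N, hN⟩ := hann (op n)
  haveI := hfin (op n) i
  let Z : Submodule A ((X.obj (op n)).X i) := LinearMap.ker ((X.obj (op n)).d i (i + 1)).hom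
  obtain ⟨c, hc⟩ := Ideal.exists_pow_inf_eq_pow_smul I Z
  obtain ⟨m, h, hm⟩ := hsmall n (c + N + (n + 1))
  refine ⟨m, h, fun z hz => ?_⟩
  let y := ((X.map (homOfLE h).op).f i).hom z.1
  have hy : y ∈ I ^ (n + 1) • (I ^ N • Z) := by
    have hzd : ((X.obj (op m)).d i (i + 1)).hom z.1 = 0 := congrArg Subtype.val hz
    have hyZ : y ∈ Z := by
      have := LinearMap.congr_fun (congrArg ModuleCat.Hom.hom ((X.map (homOfLE h).op).comm i (i + 1))) z.1
      refine LinearMap.mem_ker.2 (this.trans ?_)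
      simp [hzd]
    have := (hc (c + N + (n + 1)) (by omega)).le ⟨hm i z.1 (LinearMap.mem_ker.1 z.2), hyZ⟩
    rw [show c + N + (n + 1) - c = n + 1 + N by omega, pow_add, ← smul_eq_mul, Submodule.smul_assoc] at this
    exact Submodule.smul_mono le_rfl (Submodule.smul_mono le_rfl inf_le_right) this
  have hy' : y ∈ Submodule.map ((X.obj (op n)).d (i - 1) i).hom (I ^ (n + 1) • ⊤) := by
    rw [Submodule.map_smul'', Submodule.map_top]
    exact Submodule.smul_mono le_rfl (Submodule.smul_le.2 fun r hr x hx => hN i x (LinearMap.mem_ker.1 hx) r hr) hy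
  obtain ⟨x, hx, hxy⟩ := Submodule.mem_map.1 hy'
  exact ⟨⟨x, hbig n (i - 1) hx⟩, Subtype.ext hxy⟩

/-- systems of surjections whose kernels are eventually zero in the derived category are pro-isomorphisms -/
theorem isProIso_of_ker (ha : ∀ n i, Function.Surjective ((a.app n).f i).hom)
    (hW : ∀ n, ∃ (m : ℕ) (h : n ≤ m), DerivedCategory.Q.map ((kerSystem a).map (homOfLE h).op) = 0) :
    DerCA.IsProIso (Functor.whiskerRight a DerivedCategory.Q) := by
  intro n
  obtain ⟨m₁, h₁, hw₁⟩ := hW n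
  obtain ⟨m₂, h₂, hw₂⟩ := hW m₁
  let S : ∀ k, ShortComplex (DRing.Cx A) := fun k => kerSC (a.app (op k))
  have hS : ∀ k, (S k).ShortExact := fun k => kerSC_shortExact _ (ha _)
  have hcomm : ∀ {k l : ℕ} (h : l ≤ k), (kerSystem a).map (homOfLE h).op ≫ kerι (a.app (op l)) =
      kerι (a.app (op k)) ≫ X.map (homOfLE h).op := fun h => HomologicalComplex.hom_ext _ _ fun i => rfl
  have hb : (DerivedCategory.triangleOfSES (hS m₁)).mor₁ ≫ DerivedCategory.Q.map (X.map (homOfLE h₁).op) = 0 := by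
    change DerivedCategory.Q.map (kerι (a.app (op m₁))) ≫ DerivedCategory.Q.map (X.map (homOfLE h₁).op) = 0
    rw [← Functor.map_comp, ← hcomm h₁]
    exact (Functor.map_comp _ _ _).trans ((congrArg (· ≫ _) hw₁).trans zero_comp)
  obtain ⟨(b : DerivedCategory.Q.obj (Y.obj (op m₁)) ⟶ DerivedCategory.Q.obj (X.obj (op n))), hb'⟩ :=
    Triangle.yoneda_exact₂ _ (DerivedCategory.triangleOfSES_distinguished (hS m₁)) _ hb
  replace hb' : DerivedCategory.Q.map (X.map (homOfLE h₁).op) = DerivedCategory.Q.map (a.app (op m₁)) ≫ b := hb'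
  have hd : (DerivedCategory.triangleOfSES (hS m₁)).mor₂ ≫
      (b ≫ DerivedCategory.Q.map (a.app (op n)) - DerivedCategory.Q.map (Y.map (homOfLE h₁).op)) = 0 := by
    change DerivedCategory.Q.map (a.app (op m₁)) ≫ _ = 0
    rw [Preadditive.comp_sub, ← Category.assoc, ← hb', ← Functor.map_comp, ← Functor.map_comp, a.naturality,
      sub_self]
  obtain ⟨g, hg⟩ := Triangle.yoneda_exact₃ _ (DerivedCategory.triangleOfSES_distinguished (hS m₁)) _ hd
  let φ : S m₂ ⟶ S m₁ :=
    ⟨(kerSystem a).map (homOfLE h₂).op, X.map (homOfLE h₂).op, Y.map (homOfLE h₂).op, hcomm h₂,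
      a.naturality (homOfLE h₂).op⟩
  have hz : DerivedCategory.Q.map (Y.map (homOfLE h₂).op) ≫ DerivedCategory.triangleOfSESδ (hS m₁) = 0 := by
    have h := DerivedCategory.triangleOfSESδ_naturality (hS m₂) (hS m₁) φ
    dsimp [φ] at h
    exact h.symm.trans ((congrArg (fun u => DerivedCategory.triangleOfSESδ (hS m₂) ≫ u) ((congrArg (fun u => u⟦(1 : ℤ)⟧') hw₂).trans (Functor.map_zero _ _ _))).trans comp_zero)
  have hq : DerivedCategory.Q.map (Y.map (homOfLE h₂).op) ≫ b ≫ DerivedCategory.Q.map (a.app (op n)) =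
      DerivedCategory.Q.map (Y.map (homOfLE h₂).op) ≫ DerivedCategory.Q.map (Y.map (homOfLE h₁).op) := by
    rw [← sub_eq_zero, ← Preadditive.comp_sub, hg]
    change DerivedCategory.Q.map (Y.map (homOfLE h₂).op) ≫ DerivedCategory.triangleOfSESδ (hS m₁) ≫ g = 0
    rw [reassoc_of% hz, zero_comp]
  refine ⟨m₂, h₁.trans h₂, DerivedCategory.Q.map (Y.map (homOfLE h₂).op) ≫ b, ?_, ?_⟩
  · change DerivedCategory.Q.map (a.app (op m₂)) ≫ DerivedCategory.Q.map (Y.map (homOfLE h₂).op) ≫ b =
      DerivedCategory.Q.map (X.map (homOfLE (h₁.trans h₂)).op)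
    rw [← Category.assoc, ← Functor.map_comp, ← a.naturality, Functor.map_comp, Category.assoc, ← hb',
      ← Functor.map_comp, ← X.map_comp]
    rfl
  · change (DerivedCategory.Q.map (Y.map (homOfLE h₂).op) ≫ b) ≫ DerivedCategory.Q.map (a.app (op n)) =
      DerivedCategory.Q.map (Y.map (homOfLE (h₁.trans h₂)).op)
    rw [Category.assoc, hq, ← Functor.map_comp, ← Y.map_comp]
    rfl

/-- the criterion -/
theorem isProIso_of_small [IsNoetherianRing A] (I : Ideal A) (lo hi : ℤ)
    (hb : ∀ n, DRing.VanishesOutside (X.obj n) lo hi)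
    (ha : ∀ n i, Function.Surjective ((a.app n).f i).hom)
    (hfin : ∀ n i, Module.Finite A ((X.obj n).X i))
    (hann : ∀ n, ∃ N : ℕ, ∀ i, ∀ z : (X.obj n).X i, ((X.obj n).d i (i + 1)).hom z = 0 → ∀ r ∈ I ^ N,
      r • z ∈ LinearMap.range ((X.obj n).d (i - 1) i).hom)
    (hsmall : ∀ n j : ℕ, ∃ (m : ℕ) (h : n ≤ m), ∀ (i : ℤ) (z : (X.obj (op m)).X i),
      ((a.app (op m)).f i).hom z = 0 →
        ((X.map (homOfLE h).op).f i).hom z ∈ I ^ j • (⊤ : Submodule A ((X.obj (op n)).X i)))
    (hbig : ∀ (n : ℕ) (i : ℤ), I ^ (n + 1) • (⊤ : Submodule A ((X.obj (op n)).X i)) ≤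
      LinearMap.ker ((a.app (op n)).f i).hom) :
    DerCA.IsProIso (Functor.whiskerRight a DerivedCategory.Q) := by
  refine isProIso_of_ker a ha fun n => exists_Q_map_eq_zero (ghostSystem_kerSystem a I hfin hann hsmall hbig)
    lo hi (fun k i hi' => ?_) n
  haveI := ModuleCat.subsingleton_of_isZero (hb (op k) i hi')
  exact ModuleCat.isZero_of_subsingleton (ModuleCat.of A (LinearMap.ker ((a.app (op k)).f i).hom))

/-- functors preserve pro-isomorphisms -/
theorem isProIso_map {C D : Type*} [Category C] [Category D] (F : C ⥤ D) {X Y : ARSys.PS C} {a : X ⟶ Y}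
    (ha : DerCA.IsProIso a) : DerCA.IsProIso (Functor.whiskerRight a F) := fun n => by
  obtain ⟨m, h, b, h₁, h₂⟩ := ha n
  exact ⟨m, h, F.map b, (F.map_comp _ _).symm.trans (congrArg F.map h₁),
    (F.map_comp _ _).symm.trans (congrArg F.map h₂)⟩

/-- cancellation of pro-isomorphisms -/
theorem isProIso_of_comp {C : Type*} [Category C] {X Y Z : ARSys.PS C} (f : X ⟶ Y) (g : Y ⟶ Z)
    (hf : DerCA.IsProIso f) (hfg : DerCA.IsProIso (f ≫ g)) : DerCA.IsProIso g := fun n => by
  obtain ⟨m, h, b, h₁, h₂⟩ := hfg n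
  obtain ⟨k, h', c, _, h₄⟩ := hf m
  refine ⟨k, h.trans h', Z.map (homOfLE h').op ≫ b ≫ f.app (op n), ?_, ?_⟩
  · have e : g.app (op k) ≫ Z.map (homOfLE h').op = c ≫ f.app (op m) ≫ g.app (op m) := by
      rw [← g.naturality]
      exact (congrArg (· ≫ g.app (op m)) h₄).symm.trans (Category.assoc _ _ _)
    have h₁' : f.app (op m) ≫ g.app (op m) ≫ b = X.map (homOfLE h).op := (Category.assoc _ _ _).symm.trans h₁
    rw [reassoc_of% e, reassoc_of% h₁', f.naturality, ← Category.assoc]
    refine (congrArg (· ≫ Y.map (homOfLE h).op) h₄).trans ?_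
    exact (Y.map_comp _ _).symm
  · have h₂' : b ≫ f.app (op n) ≫ g.app (op n) = Z.map (homOfLE h).op := h₂
    simp only [Category.assoc]
    rw [h₂', ← Z.map_comp]
    rfl

end Groth.Agent.ProTor
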