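import Groth.Agent.ProTor.Tensor
import Groth.Agent.DTenLib.BraidCx

/-!
Tensoring short exact sequences of modules with complexes of flat modules, and factorisation through derived
tensor products.
-/

set_option autoImplicit false
set_option linter.style.haveILetI false
universe u

namespace Groth.Agent.ProTor

open CategoryTheory CategoryTheory.Limits MonoidalCategory HomologicalComplex TensorProduct Opposite

attribute [local instance] HasDerivedCategory.standard

variable {A : Type u} [CommRing A]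

/-- a module as a complex in degree zero -/
noncomputable abbrev sgl (M : ModuleCat.{u} A) : DRing.Cx A :=
  (HomologicalComplex.single (ModuleCat.{u} A) (ComplexShape.up ℤ) 0).obj M

/-- the summand inclusion of `F^i ⊗ M` -/
noncomputable def rightι (F : DRing.Cx A) (M : ModuleCat.{u} A) (i : ℤ) : F.X i ⊗ M ⟶ (F ⊗ sgl M).X i :=
  (F.X i ◁ (singleObjXSelf (ComplexShape.up ℤ) 0 M).inv) ≫ ιTensorObj F (sgl M) i 0 i (add_zero i)

instance isIso_rightι (F : DRing.Cx A) (M : ModuleCat.{u} A) (i : ℤ) : IsIso (rightι F M i) := by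
  let g : (F ⊗ sgl M).X i ⟶ F.X i ⊗ M := mapBifunctorDesc fun p q hpq =>
    if h : q = 0 then
      (eqToHom (congrArg F.X (show p = i by dsimp at hpq; omega)) ⊗ₘ
        (eqToHom (congrArg (sgl M).X h) ≫ (singleObjXSelf (ComplexShape.up ℤ) 0 M).hom))
    else 0
  refine ⟨g, ?_, ?_⟩
  · rw [rightι, Category.assoc]
    erw [ι_mapBifunctorDesc]
    rw [dif_pos rfl]
    simp only [eqToHom_refl, Category.id_comp, id_tensorHom]
    rw [← MonoidalCategory.whiskerLeft_comp, Iso.inv_hom_id, MonoidalCategory.whiskerLeft_id]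
  · refine mapBifunctor.hom_ext fun p q hpq => ?_
    change ιTensorObj F (sgl M) p q i hpq ≫ g ≫ rightι F M i = ιTensorObj F (sgl M) p q i hpq ≫ 𝟙 _
    rw [Category.comp_id, ← Category.assoc]
    erw [ι_mapBifunctorDesc]
    by_cases hq : q = 0
    · subst hq
      obtain rfl : p = i := by dsimp at hpq; omega
      rw [dif_pos rfl]
      simp only [eqToHom_refl, Category.id_comp, id_tensorHom, rightι]
      rw [← MonoidalCategory.whiskerLeft_comp_assoc, Iso.hom_inv_id, MonoidalCategory.whiskerLeft_id,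
        Category.id_comp]
    · rw [dif_neg hq]
      refine ModuleCat.MonoidalCategory.tensor_ext fun x y => ?_
      haveI := ModuleCat.subsingleton_of_isZero (isZero_single_obj_X (ComplexShape.up ℤ) 0 M q hq)
      rw [show y = 0 from Subsingleton.elim _ _, TensorProduct.tmul_zero]
      simp

lemma rightι_naturality (F : DRing.Cx A) {M N : ModuleCat.{u} A} (f : M ⟶ N) (i : ℤ) :
    rightι F M i ≫ (F ◁ (HomologicalComplex.single (ModuleCat.{u} A) (ComplexShape.up ℤ) 0).map f).f i =
      (F.X i ◁ f) ≫ rightι F N i := by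
  rw [rightι, rightι, Category.assoc]
  erw [DTenLib.PreDual.ι_whiskerLeft_f]
  rw [← MonoidalCategory.whiskerLeft_comp_assoc, ← MonoidalCategory.whiskerLeft_comp_assoc,
    single_map_f_self, Iso.inv_hom_id_assoc]

/-- a short complex of modules tensored with a complex -/
noncomputable def tensorSC (F : DRing.Cx A) (S : ShortComplex (ModuleCat.{u} A)) : ShortComplex (DRing.Cx A) :=
  ShortComplex.mk (F ◁ (HomologicalComplex.single (ModuleCat.{u} A) (ComplexShape.up ℤ) 0).map S.f)
    (F ◁ (HomologicalComplex.single (ModuleCat.{u} A) (ComplexShape.up ℤ) 0).map S.g)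
    (HomologicalComplex.hom_ext _ _ fun i => by
      rw [HomologicalComplex.comp_f, HomologicalComplex.zero_f, ← cancel_epi (rightι F S.X₁ i),
        ← Category.assoc, rightι_naturality, Category.assoc, rightι_naturality,
        ← MonoidalCategory.whiskerLeft_comp_assoc, S.zero, MonoidalPreadditive.whiskerLeft_zero, zero_comp,
        comp_zero])

/-- tensoring a short exact sequence of modules with a complex of flat modules -/
lemma tensor_shortExact (F : DRing.Cx A) (hF : ∀ i, Module.Flat A (F.X i)) (S : ShortComplex (ModuleCat.{u} A))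
    (hS : S.ShortExact) :
    (tensorSC F S).ShortExact := by
  refine HomologicalComplex.shortExact_of_degreewise_shortExact _ fun i => ?_
  let e : S.map (tensorLeft (F.X i)) ≅
      (tensorSC F S).map
        (HomologicalComplex.eval (ModuleCat.{u} A) (ComplexShape.up ℤ) i) :=
    ShortComplex.isoMk (@asIso _ _ _ _ (rightι F S.X₁ i) (isIso_rightι F S.X₁ i)) (@asIso _ _ _ _ (rightι F S.X₂ i) (isIso_rightι F S.X₂ i))
      (@asIso _ _ _ _ (rightι F S.X₃ i) (isIso_rightι F S.X₃ i))
      (rightι_naturality F S.f i) (rightι_naturality F S.g i)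
  refine ShortComplex.shortExact_of_iso e (ShortComplex.ShortExact.mk' ?_ ?_ ?_)
  · rw [ShortComplex.moduleCat_exact_iff_range_eq_ker]
    exact (LinearMap.exact_iff.1 (lTensor_exact (F.X i)
      (LinearMap.exact_iff.2 ((ShortComplex.moduleCat_exact_iff_range_eq_ker S).1 hS.exact).symm)
      ((ModuleCat.epi_iff_surjective _).1 hS.epi_g))).symm
  · haveI := hF i
    exact (ModuleCat.mono_iff_injective _).2
      (Module.Flat.lTensor_preserves_injective_linearMap S.f.hom ((ModuleCat.mono_iff_injective _).1 hS.mono_f))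
  · exact (ModuleCat.epi_iff_surjective _).2
      (LinearMap.lTensor_surjective _ ((ModuleCat.epi_iff_surjective _).1 hS.epi_g))

variable [IsNoetherianRing A]

/-- the inclusion `I^n M ⊆ M` factors through the derived tensor product with `I` -/
theorem exists_factor [DTen.HasLTen A] (I : Ideal A) (M : Type u) [AddCommGroup M] [Module A M]
    [Module.Finite A M] :
    ∃ (n : ℕ) (_ : 0 < n)
      (g : DerivedCategory.Q.obj (sgl (ModuleCat.of A ↥(I ^ n • (⊤ : Submodule A M)))) ⟶
        (DTen.LTen₂ A).obj (DerivedCategory.Q.obj (sgl (ModuleCat.of A ↥I)),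
          DerivedCategory.Q.obj (sgl (ModuleCat.of A M)))),
      g ≫ (DTen.LTen₂ A).map (Prod.mkHom
          (DerivedCategory.Q.map ((HomologicalComplex.single (ModuleCat.{u} A) (ComplexShape.up ℤ) 0).map
            (ModuleCat.ofHom I.subtype)))
          (𝟙 _)) ≫
        (DTen.unitL A).app (DerivedCategory.Q.obj (sgl (ModuleCat.of A M))) =
      DerivedCategory.Q.map ((HomologicalComplex.single (ModuleCat.{u} A) (ComplexShape.up ℤ) 0).map
        (ModuleCat.ofHom (I ^ n • (⊤ : Submodule A M)).subtype)) := by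
  let σ := HomologicalComplex.single (ModuleCat.{u} A) (ComplexShape.up ℤ) 0
  let K := sgl (ModuleCat.of A M)
  obtain ⟨s, hs⟩ := IsNoetherian.noetherian I
  have hl : Ideal.span {f | f ∈ s.toList} = I := by simpa using hs
  obtain ⟨D⟩ := exists_kosData I s.toList fun f hf => hl ▸ Ideal.subset_span hf
  have hK : DRing.VanishesOutside K 0 0 := fun i hi => isZero_single_obj_X _ 0 _ i (by omega)
  have hKf : ∀ i, Module.Finite A (K.X i) := fun i => by
    by_cases hi : i = 0
    · subst hi
      exact Module.Finite.equiv (singleObjXSelf (ComplexShape.up ℤ) 0 (ModuleCat.of A M)).toLinearEquiv.symm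
    · haveI := ModuleCat.subsingleton_of_isZero (hK i (by omega))
      infer_instance
  obtain ⟨m, hm, b, hb, -⟩ := isProIso_εLeft K 0 0 hl hK hKf D 0
  -- flat resolution
  obtain ⟨F, bF, hFb, hF, ⟨e⟩⟩ := DRingKP.exists_proj_rep_le (DRing.toD K) ⟨1, fun i hi =>
    (((HomologicalComplex.exactAt_iff _ i).2
      (ShortComplex.exact_of_isZero_X₂ (K.sc i) (hK i (Or.inr (by omega))))).isZero_homology).of_iso
        ((DerivedCategory.homologyFunctorFactors _ i).app K)⟩
  haveI : F.IsStrictlyLE bF := (CochainComplex.isStrictlyLE_iff F bF).2 fun i hi => hFb i hi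
  haveI := hF
  haveI := CochainComplex.isKProjective_of_projective F bF
  obtain ⟨q, hq⟩ := PerfLocal.exists_lift (F := K) e.hom
  haveI : IsIso (DerivedCategory.Q.map q) := by rw [hq]; infer_instance
  have hFflat : ∀ i, Module.Flat A (F.X i) := fun i =>
    haveI : Module.Projective A (F.X i) := (IsProjective.iff_projective (R := A) (F.X i)).2 (hF i)
    inferInstance
  have hFK : DRing.IsKFlat A F := DRingKP.isKFlat_of_bounded (b := bF) hFb hFflat
  -- the short exact sequence
  let SI : ShortComplex (ModuleCat.{u} A) := ShortComplex.mk (ModuleCat.ofHom I.subtype)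
    (ModuleCat.ofHom ((I ^ (0 + 1) • (⊤ : Submodule A A)).mkQ)) (ModuleCat.hom_ext (LinearMap.ext fun x =>
      (Submodule.Quotient.mk_eq_zero _).2 (by
        change (x.1 : A) ∈ I ^ (0 + 1) • (⊤ : Submodule A A)
        rw [zero_add, pow_one, smul_eq_mul, Ideal.mul_top]
        exact x.2)))
  have hSI : SI.ShortExact := ShortComplex.ShortExact.mk'
    ((ShortComplex.moduleCat_exact_iff_range_eq_ker _).2 (by simp [SI]))
    ((ModuleCat.mono_iff_injective _).2 Subtype.val_injective)
    ((ModuleCat.epi_iff_surjective _).2 (Submodule.mkQ_surjective _))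
  have hT := DerivedCategory.triangleOfSES_distinguished (tensor_shortExact F hFflat SI hSI)
  -- the section
  let Y := adicCx I
  let mk : ∀ k : ℕ, 𝟙_ (DRing.Cx A) ⟶ Y.obj (op k) := fun k => σ.map ((c₀ I).app (op k))
  have hmk : mk m ≫ Y.map (homOfLE hm).op = mk 0 := by
    have := (c₀ I).naturality (homOfLE hm).op
    exact ((σ.map_comp _ _).symm.trans (congrArg σ.map (this.symm.trans (Category.id_comp _))))
  let S := ModuleCat.of A ↥(I ^ (m + 1) • (⊤ : Submodule A M))
  let sK : DerivedCategory.Q.obj (sgl S) ⟶ DerivedCategory.Q.obj K :=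
    DerivedCategory.Q.map (σ.map (ModuleCat.ofHom (I ^ (m + 1) • (⊤ : Submodule A M)).subtype))
  have hzero : σ.map (ModuleCat.ofHom (I ^ (m + 1) • (⊤ : Submodule A M)).subtype) ≫ (ρ_ K).inv ≫ (K ◁ mk m) = 0 := by
    refine HomologicalComplex.from_single_hom_ext (ModuleCat.hom_ext (LinearMap.ext fun x => ?_))
    have key : ∀ y : K.X 0, y ∈ I ^ (m + 1) • (⊤ : Submodule A (K.X 0)) →
        (((ρ_ K).inv ≫ (K ◁ mk m)).f 0).hom y = 0 := fun y hy => by
      refine LinearMap.mem_ker.1 ((Submodule.smul_le.2 fun r hr z _ => LinearMap.mem_ker.2 ?_) hy)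
      rw [map_smul]
      exact tensor_kill r (fun q w => adicCx_kill I (op m) q r hr w) _
    simp only [HomologicalComplex.comp_f, HomologicalComplex.zero_f, ModuleCat.hom_comp, LinearMap.comp_apply,
      σ, single_map_f_self, HomologicalComplex.zero_f]
    refine key _ ?_
    exact smul_top_map _ (singleObjXSelf (ComplexShape.up ℤ) 0 (ModuleCat.of A M)).inv.hom
      (show ((singleObjXSelf (ComplexShape.up ℤ) 0 S).hom.hom _ : S).1 ∈ _ from
        ((singleObjXSelf (ComplexShape.up ℤ) 0 S).hom.hom _ : S).2)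
  -- comparison with the resolution
  let L := fun (X : DRing.Cx A) => (DTen.εLeft A X)
  haveI : ∀ W, IsIso ((DTen.ε A).app (F, W)) := fun W => DTenLib.isIso_ε_left hFK W
  let Lq : ∀ W : DRing.Cx A, (DTen.LTen₂ A).obj (DerivedCategory.Q.obj F, DerivedCategory.Q.obj W) ⟶
      (DTen.LTen₂ A).obj (DerivedCategory.Q.obj K, DerivedCategory.Q.obj W) := fun W =>
    (DTen.LTen₂ A).map (Prod.mkHom (DerivedCategory.Q.map q) (𝟙 _))
  haveI : ∀ W, IsIso (Lq W) := fun W =>
    have : IsIso (Prod.mkHom (DerivedCategory.Q.map q) (𝟙 (DerivedCategory.Q.obj W))) := (isIso_prod_iff _ _).2 ⟨inferInstance, inferInstance⟩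
    inferInstance
  have hεq : ∀ W, Lq W ≫ (DTen.ε A).app (K, W) = (DTen.ε A).app (F, W) ≫ DerivedCategory.Q.map (q ▷ W) := by
    intro W
    have := (DTen.ε A).naturality (Prod.mkHom q (𝟙 W))
    dsimp at this
    simpa [Lq] using this
  let b'' : DerivedCategory.Q.obj (K ⊗ Y.obj (op m)) ⟶ DerivedCategory.Q.obj (F ⊗ Y.obj (op 0)) :=
    b ≫ inv (Lq (Y.obj (op 0))) ≫ (DTen.ε A).app (F, Y.obj (op 0))
  have hb'' : DerivedCategory.Q.map (q ▷ Y.obj (op m)) ≫ b'' = DerivedCategory.Q.map (F ◁ Y.map (homOfLE hm).op) := by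
    rw [← cancel_epi ((DTen.ε A).app (F, Y.obj (op m))), ← Category.assoc, ← hεq, Category.assoc]
    have hb₁ : (DTen.ε A).app (K, Y.obj (op m)) ≫ b =
        (DTen.LTen₂ A).map (Prod.mkHom (𝟙 _) (DerivedCategory.Q.map (Y.map (homOfLE hm).op))) := hb
    rw [reassoc_of% hb₁]
    have hcomm : Lq (Y.obj (op m)) ≫ (DTen.LTen₂ A).map (Prod.mkHom (𝟙 _) (DerivedCategory.Q.map (Y.map (homOfLE hm).op))) =
        (DTen.LTen₂ A).map (Prod.mkHom (𝟙 _) (DerivedCategory.Q.map (Y.map (homOfLE hm).op))) ≫ Lq (Y.obj (op 0)) := by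
      rw [← Functor.map_comp, ← Functor.map_comp]
      exact congrArg _ (Prod.ext (by simp) (by simp))
    rw [reassoc_of% hcomm, IsIso.hom_inv_id_assoc]
    exact (DTen.εLeft A F).naturality (Y.map (homOfLE hm).op)
  let sF := sK ≫ inv (DerivedCategory.Q.map q)
  have hsF : sF ≫ DerivedCategory.Q.map (ρ_ F).inv ≫ DerivedCategory.Q.map (F ◁ mk 0) = 0 := by
    have e₁ : (ρ_ F).inv ≫ (F ◁ mk m) ≫ (q ▷ Y.obj (op m)) = q ≫ (ρ_ K).inv ≫ (K ◁ mk m) := by
      rw [whisker_exchange, rightUnitor_inv_naturality_assoc]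
    rw [← hmk, MonoidalCategory.whiskerLeft_comp, Functor.map_comp, ← hb'']
    simp only [← Functor.map_comp_assoc, Category.assoc]
    rw [e₁]
    simp only [sF, sK, Category.assoc, Functor.map_comp, IsIso.inv_hom_id_assoc]
    simp only [← Functor.map_comp_assoc, Category.assoc]
    rw [hzero, Functor.map_zero, zero_comp]
  obtain ⟨(h : DerivedCategory.Q.obj (sgl S) ⟶ DerivedCategory.Q.obj (F ⊗ sgl (ModuleCat.of A I))), hh⟩ :=
    CategoryTheory.Pretriangulated.Triangle.coyoneda_exact₂ _ hT (sF ≫ DerivedCategory.Q.map (ρ_ F).inv) (by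
      rw [Category.assoc]; exact hsF)
  replace hh : sF ≫ DerivedCategory.Q.map (ρ_ F).inv =
      h ≫ DerivedCategory.Q.map (F ◁ σ.map (ModuleCat.ofHom I.subtype)) := hh
  haveI : IsIso ((DTen.ε A).app (sgl (ModuleCat.of A I), F)) := DTenLib.isIso_ε_right _ hFK
  refine ⟨m + 1, Nat.succ_pos m, h ≫ DerivedCategory.Q.map (DTen.braidCx F (sgl (ModuleCat.of A I))).hom ≫
    inv ((DTen.ε A).app (sgl (ModuleCat.of A I), F)) ≫
    (DTen.LTen₂ A).map (Prod.mkHom (𝟙 _) (DerivedCategory.Q.map q)), ?_⟩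
  have hnat : (DTen.LTen₂ A).map (Prod.mkHom (𝟙 _) (DerivedCategory.Q.map q)) ≫
      (DTen.LTen₂ A).map (Prod.mkHom (DerivedCategory.Q.map (σ.map (ModuleCat.ofHom I.subtype))) (𝟙 _)) ≫
      (DTen.ε A).app (𝟙_ (DRing.Cx A), K) =
      (DTen.ε A).app (sgl (ModuleCat.of A I), F) ≫
        DerivedCategory.Q.map ((σ.map (ModuleCat.ofHom I.subtype) ▷ F) ≫ ((𝟙_ (DRing.Cx A)) ◁ q)) := by
    have := (DTen.ε A).naturality (Prod.mkHom (σ.map (ModuleCat.ofHom I.subtype)) q)
    refine Eq.trans ?_ this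
    rw [← Category.assoc, ← Functor.map_comp]
    refine congrArg (fun u => (DTen.LTen₂ A).map u ≫ (DTen.ε A).app (𝟙_ (DRing.Cx A), K)) ?_
    exact Prod.ext (by simp [DTen.QQ]) (by simp [DTen.QQ])
  have e₂ : (DTen.braidCx F (sgl (ModuleCat.of A I))).hom ≫
      ((σ.map (ModuleCat.ofHom I.subtype) ▷ F) ≫ ((𝟙_ (DRing.Cx A)) ◁ q)) ≫ (λ_ K).hom =
      (F ◁ σ.map (ModuleCat.ofHom I.subtype)) ≫ (ρ_ F).hom ≫ q := by
    letI := DTenLib.braidedCx (A := A)
    have hβ : (DTen.braidCx F (𝟙_ (DRing.Cx A))).hom ≫ (λ_ F).hom = (ρ_ F).hom := braiding_leftUnitor F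
    have hn : (DTen.braidCx F (sgl (ModuleCat.of A I))).hom ≫ (σ.map (ModuleCat.ofHom I.subtype) ▷ F) =
        (F ◁ σ.map (ModuleCat.ofHom I.subtype)) ≫ (DTen.braidCx F (𝟙_ (DRing.Cx A))).hom := by
      have := (DTen.braidCx_naturality (𝟙 F) (σ.map (ModuleCat.ofHom I.subtype))).symm
      rw [id_tensorHom, tensorHom_id] at this
      exact this
    rw [Category.assoc, reassoc_of% hn, leftUnitor_naturality, reassoc_of% hβ]
  simp only [Category.assoc]
  rw [DTen.unitL_app]
  erw [reassoc_of% hnat]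
  rw [IsIso.inv_hom_id_assoc, ← Functor.map_comp, ← Functor.map_comp, e₂]
  rw [Functor.map_comp, ← Category.assoc, ← hh, Category.assoc, ← Functor.map_comp, Iso.inv_hom_id_assoc]
  simp only [sF, sK, σ, Category.assoc]
  erw [IsIso.inv_hom_id, Category.comp_id]

end Groth.Agent.ProTor
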