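import Groth.Agent.DTenLib.Basic
import Groth.Agent.DRingKP.ProjAmp
import Groth.Agent.DRingKP.TorAmp
import Groth.Agent.PerfLocal.Perfect

/-!
Systems of bounded complexes with transition maps killing cohomology have transition maps vanishing in the
derived category.
-/

set_option autoImplicit false
set_option linter.style.haveILetI false
universe u

namespace Groth.Agent.ProTor

open CategoryTheory CategoryTheory.Limits

attribute [local instance] HasDerivedCategory.standard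

variable {A : Type u} [CommRing A]

/-- `w` maps cycles in degree `i` to boundaries -/
def GhostAt {X Y : DRing.Cx A} (w : X ⟶ Y) (i : ℤ) : Prop :=
  ∀ z : X.X i, (X.d i (i + 1)).hom z = 0 → (w.f i).hom z ∈ LinearMap.range (Y.d (i - 1) i).hom

lemma exists_lower {P X Y : DRing.Cx A} (w : X ⟶ Y) (t : ℤ) (hP : Projective (P.X t)) (hw : GhostAt w t)
    (g : P ⟶ X) (hg : ∀ i, t < i → g.f i = 0) :
    ∃ g' : P ⟶ Y, (∀ i, t - 1 < i → g'.f i = 0) ∧ Nonempty (Homotopy (g ≫ w) g') := by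
  have hker : ∀ x, ((g ≫ w).f t).hom x ∈ LinearMap.range (Y.d (t - 1) t).hom := fun x => by
    refine hw _ ?_
    have h : g.f t ≫ X.d t (t + 1) = 0 := by
      rw [g.comm, hg (t + 1) (by omega), comp_zero]
    exact LinearMap.congr_fun (congrArg ModuleCat.Hom.hom h) x
  haveI : Module.Projective A (P.X t) := (IsProjective.iff_projective (R := A) (P.X t)).2 hP
  obtain ⟨k, hk⟩ := Module.projective_lifting_property (Y.d (t - 1) t).hom.rangeRestrict
    (((g ≫ w).f t).hom.codRestrict _ hker) (LinearMap.surjective_rangeRestrict _)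
  have hk' : ModuleCat.ofHom k ≫ Y.d (t - 1) t = (g ≫ w).f t :=
    ModuleCat.hom_ext (LinearMap.ext fun x => congrArg Subtype.val (LinearMap.congr_fun hk x))
  let hom : ∀ i j : ℤ, (ComplexShape.up ℤ).Rel j i → (P.X i ⟶ Y.X j) := fun i j hij =>
    if h : i = t then
      eqToHom (congrArg P.X h) ≫ ModuleCat.ofHom k ≫ eqToHom (congrArg Y.X (show t - 1 = j by
        have : j + 1 = i := hij
        omega))
    else 0
  let Δ : P ⟶ Y := Homotopy.nullHomotopicMap' hom
  have hrel : ∀ i : ℤ, (ComplexShape.up ℤ).Rel (i - 1) i ∧ (ComplexShape.up ℤ).Rel i (i + 1) := fun i => by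
    simp
  have hΔ : ∀ i, Δ.f i = P.d i (i + 1) ≫ hom (i + 1) i (hrel i).2 + hom i (i - 1) (hrel i).1 ≫ Y.d (i - 1) i :=
    fun i => Homotopy.nullHomotopicMap'_f (hrel i).1 (hrel i).2 hom
  have hne : ∀ (i j : ℤ) (h : (ComplexShape.up ℤ).Rel j i), i ≠ t → hom i j h = 0 :=
    fun i j h hi => dif_neg hi
  refine ⟨g ≫ w - Δ, fun i hi => ?_, ⟨?_⟩⟩
  · rw [HomologicalComplex.sub_f_apply, hΔ, hne (i + 1) i (hrel i).2 (by omega), comp_zero, zero_add]
    by_cases hit : i = t
    · subst hit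
      have : hom i (i - 1) (hrel i).1 = ModuleCat.ofHom k := by simp [hom]
      rw [this, hk', sub_self]
    · rw [hne i (i - 1) (hrel i).1 hit, zero_comp, sub_zero, HomologicalComplex.comp_f, hg i (by omega), zero_comp]
  · refine Homotopy.equivSubZero.symm ((Homotopy.ofEq (sub_sub_cancel _ _)).trans ?_)
    exact Homotopy.nullHomotopy' hom

variable {X : ℕᵒᵖ ⥤ DRing.Cx A}

/-- every index has a later one whose transition map kills cohomology in degree `i` -/
def GhostSystem (X : ℕᵒᵖ ⥤ DRing.Cx A) : Prop :=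
  ∀ (i : ℤ) (n : ℕ), ∃ (m : ℕ) (h : n ≤ m), GhostAt (X.map (homOfLE h).op) i

lemma exists_iter (hX : GhostSystem X) (b : ℤ) (hb : ∀ n i, b < i → IsZero ((X.obj (Opposite.op n)).X i))
    (k : ℕ) (n : ℕ) :
    ∃ (m : ℕ) (h : n ≤ m), ∀ (P : DRing.Cx A), (∀ i, Projective (P.X i)) → ∀ f : P ⟶ X.obj (Opposite.op m),
      ∃ g : P ⟶ X.obj (Opposite.op n), (∀ i, b - k < i → g.f i = 0) ∧
        Nonempty (Homotopy (f ≫ X.map (homOfLE h).op) g) := by
  induction k generalizing n with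
  | zero =>
    exact ⟨n, le_rfl, fun P _ f => ⟨f ≫ X.map (homOfLE le_rfl).op,
      fun i hi => (hb n i (by omega)).eq_of_tgt _ _, ⟨Homotopy.refl _⟩⟩⟩
  | succ k ih =>
    obtain ⟨n₁, h₁, hw⟩ := hX (b - k) n
    obtain ⟨m, h₂, hm⟩ := ih n₁
    refine ⟨m, h₁.trans h₂, fun P hP f => ?_⟩
    obtain ⟨g, hg, ⟨H⟩⟩ := hm P hP f
    obtain ⟨g', hg', ⟨H'⟩⟩ := exists_lower (X.map (homOfLE h₁).op) (b - k) (hP _) hw g hg
    refine ⟨g', fun i hi => hg' i (by push_cast at hi; omega), ⟨Homotopy.trans ?_ H'⟩⟩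
    refine (Homotopy.ofEq ?_).trans (H.compRight _)
    rw [Category.assoc, ← X.map_comp]
    rfl

lemma exists_Q_map_eq_zero (hX : GhostSystem X) (a b : ℤ)
    (hb : ∀ n, DRing.VanishesOutside (X.obj (Opposite.op n)) a b) (n : ℕ) :
    ∃ (m : ℕ) (h : n ≤ m), DerivedCategory.Q.map (X.map (homOfLE h).op) = 0 := by
  obtain ⟨m, h, hm⟩ := exists_iter hX b (fun n i hi => hb n i (Or.inr hi)) (b + 1 - a).toNat n
  refine ⟨m, h, ?_⟩
  obtain ⟨P, b', hPb, hP, ⟨e⟩⟩ := DRingKP.exists_proj_rep_le (DRing.toD (X.obj (Opposite.op m)))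
    ⟨b + 1, fun i hi => (((HomologicalComplex.exactAt_iff _ i).2
      (ShortComplex.exact_of_isZero_X₂ _ (hb m i (Or.inr (by omega))))).isZero_homology).of_iso
        ((DerivedCategory.homologyFunctorFactors _ i).app (X.obj (Opposite.op m)))⟩
  haveI : P.IsStrictlyLE b' := (CochainComplex.isStrictlyLE_iff P b').2 fun i hi => hPb i hi
  haveI := hP
  haveI := CochainComplex.isKProjective_of_projective P b'
  obtain ⟨f, hf⟩ := PerfLocal.exists_lift (F := X.obj (Opposite.op m)) e.hom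
  obtain ⟨g, hg, ⟨H⟩⟩ := hm P hP f
  have hg0 : g = 0 := HomologicalComplex.hom_ext _ _ fun i => by
    by_cases hi : b - ((b + 1 - a).toNat : ℤ) < i
    · exact hg i hi
    · exact (hb n i (Or.inl (by omega))).eq_of_tgt _ _
  have h0 : DerivedCategory.Q.map (f ≫ X.map (homOfLE h).op) = 0 := by
    rw [DerivedCategory.Q_map_eq_of_homotopy (C := ModuleCat.{u} A) H, hg0, Functor.map_zero]
  rw [Functor.map_comp, hf] at h0
  exact (cancel_epi e.hom).1 (h0.trans comp_zero.symm)

end Groth.Agent.ProTor
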