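import Groth.Agent.ProTor.Criterion
import Groth.Agent.DTenLib.DualCx
import Groth.Agent.DRingKP.KFlat
import Mathlib.RingTheory.Ideal.Operations
import Mathlib.LinearAlgebra.TensorProduct.RightExactness

/-!
Derived completion systems of a bounded complex of finite modules.
-/

set_option autoImplicit false
set_option linter.style.haveILetI false
universe u

namespace Groth.Agent.ProTor

open CategoryTheory CategoryTheory.Limits MonoidalCategory HomologicalComplex TensorProduct Opposite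

attribute [local instance] HasDerivedCategory.standard

variable {A : Type u} [CommRing A]

lemma tensor_zero {K L : DRing.Cx A} {i : ℤ} (h : ∀ p q, p + q = i → IsZero (K.X p) ∨ IsZero (L.X q)) :
    IsZero ((K ⊗ L).X i) := by
  rw [IsZero.iff_id_eq_zero]
  refine mapBifunctor.hom_ext fun p q hpq => ?_
  refine ModuleCat.MonoidalCategory.tensor_ext fun x y => ?_
  change (ιTensorObj K L p q i hpq).hom (x ⊗ₜ[A] y) = 0
  rcases h p q hpq with h | h <;> haveI := ModuleCat.subsingleton_of_isZero h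
  · rw [Subsingleton.elim x 0, TensorProduct.zero_tmul, map_zero]
  · rw [Subsingleton.elim y 0, TensorProduct.tmul_zero, map_zero]

lemma whiskerLeft_surjective {K : DRing.Cx A} {L L' : DRing.Cx A} (f : L ⟶ L')
    (hf : ∀ i, Function.Surjective (f.f i).hom) (i : ℤ) : Function.Surjective ((K ◁ f).f i).hom := by
  refine (ModuleCat.epi_iff_surjective _).1 ⟨fun g g' h => mapBifunctor.hom_ext fun p q hpq => ?_⟩
  have hepi : Epi (K.X p ◁ f.f q) :=
    (ModuleCat.epi_iff_surjective _).2 (LinearMap.lTensor_surjective _ (hf q))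
  refine hepi.left_cancellation _ _ ?_
  change (K.X p ◁ f.f q) ≫ ιTensorObj K L' p q i hpq ≫ g = (K.X p ◁ f.f q) ≫ ιTensorObj K L' p q i hpq ≫ g'
  rw [← Category.assoc, ← DTenLib.PreDual.ι_whiskerLeft_f, Category.assoc, h, ← Category.assoc, DTenLib.PreDual.ι_whiskerLeft_f,
    Category.assoc]

lemma finite_tensor {K L : DRing.Cx A} (a b : ℤ) (hK : DRing.VanishesOutside K a b)
    (hKf : ∀ i, Module.Finite A (K.X i)) (hLf : ∀ i, Module.Finite A (L.X i)) (i : ℤ) :
    Module.Finite A ((K ⊗ L).X i) := by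
  let S : Submodule A ((K ⊗ L).X i) :=
    ⨆ p : Finset.Icc a b, LinearMap.range (ιTensorObj K L p.1 (i - p.1) i (add_sub_cancel _ _)).hom
  have hS : ModuleCat.ofHom S.mkQ = 0 := by
    refine mapBifunctor.hom_ext fun p q hpq => ?_
    obtain rfl : q = i - p := by simp at hpq; omega
    refine ModuleCat.MonoidalCategory.tensor_ext fun x y => ?_
    refine (Submodule.Quotient.mk_eq_zero S).2 ?_
    by_cases hp : p ∈ Finset.Icc a b
    · exact Submodule.mem_iSup_of_mem (⟨p, hp⟩ : Finset.Icc a b) ⟨x ⊗ₜ[A] y, rfl⟩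
    · haveI := ModuleCat.subsingleton_of_isZero (hK p (by rw [Finset.mem_Icc] at hp; omega))
      rw [show x = 0 from Subsingleton.elim _ _, TensorProduct.zero_tmul]
      exact (map_zero (ιTensorObj K L p (i - p) i hpq).hom).symm ▸ S.zero_mem
  refine ⟨?_⟩
  have hST : S = ⊤ := Submodule.eq_top_iff'.2 fun x =>
    (Submodule.Quotient.mk_eq_zero S).1 (LinearMap.congr_fun (congrArg ModuleCat.Hom.hom hS) x)
  rw [← hST]
  refine Submodule.fg_iSup _ fun p => ?_
  haveI := hKf p.1
  haveI := hLf (i - p.1)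
  haveI : Module.Finite A (K.X p.1 ⊗ L.X (i - p.1) : ModuleCat.{u} A) :=
    inferInstanceAs (Module.Finite A (K.X p.1 ⊗[A] L.X (i - p.1)))
  rw [LinearMap.range_eq_map]
  exact Module.Finite.fg_top.map _

lemma tensor_kill {K L : DRing.Cx A} {i : ℤ} (r : A) (h : ∀ q (y : L.X q), r • y = 0) (x : (K ⊗ L).X i) :
    r • x = 0 := by
  have : r • 𝟙 ((K ⊗ L).X i) = 0 := mapBifunctor.hom_ext fun p q hpq =>
    ModuleCat.MonoidalCategory.tensor_ext fun a b => by
      change r • (ιTensorObj K L p q i hpq).hom (a ⊗ₜ[A] b) = 0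
      rw [← map_smul, ← TensorProduct.tmul_smul, h, TensorProduct.tmul_zero, map_zero]
  exact LinearMap.congr_fun (congrArg ModuleCat.Hom.hom this) x

lemma whiskerLeft_smul_id (K L : DRing.Cx A) (r : A) : K ◁ (r • 𝟙 L) = r • 𝟙 (K ⊗ L) := by
  refine HomologicalComplex.hom_ext _ _ fun i => mapBifunctor.hom_ext fun p q hpq => ?_
  change ιTensorObj K L p q i hpq ≫ (K ◁ (r • 𝟙 L)).f i = ιTensorObj K L p q i hpq ≫ (r • 𝟙 (K ⊗ L)).f i
  rw [DTenLib.PreDual.ι_whiskerLeft_f]
  refine ModuleCat.MonoidalCategory.tensor_ext fun a b => ?_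
  change (ιTensorObj K L p q i hpq).hom (a ⊗ₜ[A] (r • b)) = r • (ιTensorObj K L p q i hpq).hom (a ⊗ₜ[A] b)
  rw [TensorProduct.tmul_smul, map_smul]

lemma smul_mem_range_of_homotopy {X : DRing.Cx A} {r : A} (h : Homotopy (r • 𝟙 X) 0) (i : ℤ) (z : X.X i)
    (hz : (X.d i (i + 1)).hom z = 0) : r • z ∈ LinearMap.range (X.d (i - 1) i).hom := by
  have := h.comm i
  rw [dNext_eq _ (show (ComplexShape.up ℤ).Rel i (i + 1) from rfl),
    prevD_eq _ (show (ComplexShape.up ℤ).Rel (i - 1) i by simp)] at this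
  refine ⟨(h.hom i (i - 1)).hom z, ?_⟩
  have := LinearMap.congr_fun (congrArg ModuleCat.Hom.hom this) z
  simpa [hz] using this.symm

variable {I : Ideal A} {l : List A} (D : KosData I l)

lemma ann_of_null (hl : Ideal.span {f | f ∈ l} = I) {X : DRing.Cx A} (n : ℕ)
    (h : ∀ f ∈ l, Nonempty (Homotopy (f ^ (n + 1) • 𝟙 X) 0)) :
    ∃ N : ℕ, ∀ i, ∀ z : X.X i, (X.d i (i + 1)).hom z = 0 → ∀ r ∈ I ^ N,
      r • z ∈ LinearMap.range (X.d (i - 1) i).hom := by
  let J := Ideal.span ((fun f => f ^ (n + 1)) '' {f | f ∈ l})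
  obtain ⟨N, hN⟩ := Ideal.exists_pow_le_of_le_radical_of_fg (I := I) (J := J) (by
      rw [← hl, Ideal.span_le]
      exact fun f hf => ⟨n + 1, Ideal.subset_span ⟨f, hf, rfl⟩⟩)
    (by rw [← hl]; exact Submodule.fg_span l.finite_toSet)
  refine ⟨N, fun i z hz r hr => ?_⟩
  have : J ≤ (LinearMap.range (X.d (i - 1) i).hom).comap (LinearMap.toSpanSingleton A (X.X i) z) := by
    rw [Ideal.span_le]
    rintro _ ⟨f, hf, rfl⟩
    obtain ⟨H⟩ := h f hf
    exact smul_mem_range_of_homotopy H i z hz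
  exact this (hN hr)

variable [IsNoetherianRing A]

/-- the augmentation is a pro-isomorphism -/
theorem isProIso_c (hl : Ideal.span {f | f ∈ l} = I) :
    DerCA.IsProIso (Functor.whiskerRight D.c DerivedCategory.Q) := by
  refine isProIso_of_small D.c I D.a 0 D.bounded D.surj (fun n i => (D.fp n i).1)
    (fun n => ann_of_null hl n.unop (D.null n)) D.small fun n i => ?_
  refine Submodule.smul_le.2 fun r hr x _ => LinearMap.mem_ker.2 ?_
  rw [map_smul]
  exact adicCx_kill I (op n) i r hr _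

variable (K : DRing.Cx A) (a b : ℤ)

/-- the tensored augmentation is a pro-isomorphism -/
theorem isProIso_tensor (hl : Ideal.span {f | f ∈ l} = I) (hK : DRing.VanishesOutside K a b)
    (hKf : ∀ i, Module.Finite A (K.X i)) :
    DerCA.IsProIso (Functor.whiskerRight (Functor.whiskerRight D.c (tensorLeft K)) DerivedCategory.Q) := by
  refine isProIso_of_small _ I (a + D.a) b (fun n i hi => ?_) (fun n => whiskerLeft_surjective _ (D.surj n))
    (fun n => finite_tensor a b hK hKf fun q => (D.fp n q).1) (fun n => ann_of_null hl n.unop fun f hf => ?_)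
    (fun n j => ?_) (fun n i => ?_)
  · refine tensor_zero fun p q hpq => ?_
    by_cases hp : p < a ∨ b < p
    · exact Or.inl (hK p hp)
    · exact Or.inr (D.bounded n q (by omega))
  · obtain ⟨H⟩ := D.null n f hf
    exact ⟨(Homotopy.ofEq (whiskerLeft_smul_id K (D.G.obj n) _).symm).trans
      ((mapBifunctorMapHomotopy₂ (𝟙 K) H (curriedTensor (ModuleCat.{u} A)) _).trans (Homotopy.ofEq
        (HomologicalComplex.hom_ext _ _ fun i => mapBifunctor.hom_ext fun p q hpq => by simp)))⟩
  · obtain ⟨m, h, hm⟩ := D.small n j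
    refine ⟨m, h, fun i z hz => ?_⟩
    let Q := I ^ j • (⊤ : Submodule A ((K ⊗ D.G.obj (op n)).X i))
    let π : (K ⊗ D.G.obj (op m)).X i ⟶ ModuleCat.of A ((K ⊗ D.G.obj (op n)).X i ⧸ Q) :=
      (K ◁ D.G.map (homOfLE h).op).f i ≫ ModuleCat.ofHom Q.mkQ
    have hs : ∀ p q (hpq : p + q = i), ∃ s : (K.X p ⊗ ((adicCx I).obj (op m)).X q) ⟶
        ModuleCat.of A ((K ⊗ D.G.obj (op n)).X i ⧸ Q),
        (K.X p ◁ (D.c.app (op m)).f q) ≫ s = ιTensorObj K (D.G.obj (op m)) p q i hpq ≫ π := by
      intro p q hpq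
      let f := ((D.c.app (op m)).f q).hom
      let φ : K.X p ⊗[A] (D.G.obj (op m)).X q →ₗ[A] ((K ⊗ D.G.obj (op n)).X i ⧸ Q) :=
        (ιTensorObj K (D.G.obj (op m)) p q i hpq ≫ π).hom
      have hexact := lTensor_exact (K.X p) (f := (LinearMap.ker f).subtype) (g := f)
        (LinearMap.exact_subtype_ker_map f) (D.surj (op m) q)
      have hsurj := LinearMap.lTensor_surjective (K.X p) (D.surj (op m) q)
      have hker : LinearMap.ker (LinearMap.lTensor (K.X p) f) ≤ LinearMap.ker φ := by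
        rw [LinearMap.exact_iff.1 hexact, LinearMap.range_le_ker_iff]
        refine TensorProduct.ext' fun x y => ?_
        have hy := hm q y.1 (LinearMap.mem_ker.1 y.2)
        change ((ιTensorObj K (D.G.obj (op m)) p q i hpq ≫ (K ◁ D.G.map (homOfLE h).op).f i) ≫
          ModuleCat.ofHom Q.mkQ).hom (x ⊗ₜ[A] y.1) = 0
        rw [DTenLib.PreDual.ι_whiskerLeft_f]
        refine (Submodule.Quotient.mk_eq_zero Q).2 ?_
        exact smul_top_map (I ^ j) ((ιTensorObj K (D.G.obj (op n)) p q i hpq).hom ∘ₗ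
          TensorProduct.mk A (K.X p) ((D.G.obj (op n)).X q) x) hy
      refine ⟨ModuleCat.ofHom (((LinearMap.ker (LinearMap.lTensor (K.X p) f)).liftQ φ hker) ∘ₗ
        ((LinearMap.lTensor (K.X p) f).quotKerEquivOfSurjective hsurj).symm.toLinearMap), ?_⟩
      refine ModuleCat.hom_ext (LinearMap.ext fun w => ?_)
      change (LinearMap.ker (LinearMap.lTensor (K.X p) f)).liftQ φ hker
        (((LinearMap.lTensor (K.X p) f).quotKerEquivOfSurjective hsurj).symm (LinearMap.lTensor (K.X p) f w)) = φ w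
      rw [show ((LinearMap.lTensor (K.X p) f).quotKerEquivOfSurjective hsurj).symm (LinearMap.lTensor (K.X p) f w) =
        Submodule.Quotient.mk w from (LinearEquiv.symm_apply_eq _).2 rfl]
      rfl
    choose s hs using hs
    have hπ : (K ◁ D.c.app (op m)).f i ≫ mapBifunctorDesc (fun p q hpq => s p q hpq) = π :=
      mapBifunctor.hom_ext fun p q hpq => by
        change ιTensorObj K (D.G.obj (op m)) p q i hpq ≫ (K ◁ D.c.app (op m)).f i ≫ _ =
          ιTensorObj K (D.G.obj (op m)) p q i hpq ≫ π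
        rw [← Category.assoc, DTenLib.PreDual.ι_whiskerLeft_f, Category.assoc]
        erw [ι_mapBifunctorDesc]
        exact hs p q hpq
    have hz' : ((K ◁ D.c.app (op m)).f i).hom z = 0 := hz
    have := LinearMap.congr_fun (congrArg ModuleCat.Hom.hom hπ) z
    simp only [ModuleCat.hom_comp, LinearMap.comp_apply, hz', map_zero] at this
    exact (Submodule.Quotient.mk_eq_zero Q).1 this.symm
  · refine Submodule.smul_le.2 fun r hr x _ => LinearMap.mem_ker.2 ?_
    rw [map_smul]
    exact tensor_kill r (fun q y => adicCx_kill I (op n) q r hr y) _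

lemma isKFlat_G (n : ℕᵒᵖ) : DRing.IsKFlat A (D.G.obj n) :=
  DRingKP.isKFlat_of_bounded (b := 0) (fun i hi => D.bounded n i (Or.inr hi)) fun i =>
    haveI := (D.fp n i).2; inferInstance

/-- derived and plain completion systems agree -/
theorem isProIso_εLeft [DTen.HasLTen A] (hl : Ideal.span {f | f ∈ l} = I) (hK : DRing.VanishesOutside K a b)
    (hKf : ∀ i, Module.Finite A (K.X i)) (D : KosData I l) :
    DerCA.IsProIso (Functor.whiskerLeft (adicCx I) (DTen.εLeft A K)) := by
  let L := (DTen.LTen A).obj (DerivedCategory.Q.obj K)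
  let f : D.G ⋙ DerivedCategory.Q ⋙ L ⟶ adicCx I ⋙ DerivedCategory.Q ⋙ L :=
    Functor.whiskerRight (Functor.whiskerRight D.c DerivedCategory.Q) L
  have hf : DerCA.IsProIso f := isProIso_map L (isProIso_c D hl)
  refine isProIso_of_comp f _ hf fun n => ?_
  obtain ⟨m, h, c, h₁, h₂⟩ := isProIso_tensor D K a b hl hK hKf n
  haveI : ∀ k, IsIso ((DTen.εLeft A K).app (D.G.obj k)) := fun k => DTenLib.isIso_ε_right K (isKFlat_G D k)
  have hnat : ∀ k, f.app k ≫ (DTen.εLeft A K).app ((adicCx I).obj k) =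
      (DTen.εLeft A K).app (D.G.obj k) ≫ DerivedCategory.Q.map (K ◁ D.c.app k) :=
    fun k => (DTen.εLeft A K).naturality (D.c.app k)
  refine ⟨m, h, c ≫ inv ((DTen.εLeft A K).app (D.G.obj (op n))), ?_, ?_⟩
  · change (f.app (op m) ≫ (DTen.εLeft A K).app _) ≫ _ = _
    rw [hnat, Category.assoc]
    have h₁' : DerivedCategory.Q.map (K ◁ D.c.app (op m)) ≫ c =
      DerivedCategory.Q.map (K ◁ D.G.map (homOfLE h).op) := h₁
    erw [reassoc_of% h₁', reassoc_of% ((DTen.εLeft A K).naturality (D.G.map (homOfLE h).op)).symm]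
    rw [IsIso.hom_inv_id]
    exact Category.comp_id _
  · change (c ≫ inv _) ≫ f.app (op n) ≫ (DTen.εLeft A K).app _ = _
    rw [hnat, Category.assoc, IsIso.inv_hom_id_assoc]
    exact h₂

end Groth.Agent.ProTor
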