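import Groth.Agent.DTenLib.Basic
import Mathlib.Algebra.Homology.Linear

/-!
The cone of multiplication by a scalar, written on elements.
-/

set_option autoImplicit false
set_option linter.style.haveILetI false
universe u

namespace Groth.Agent.ProTor

open CategoryTheory CategoryTheory.Limits

variable {A : Type u} [CommRing A]

/-- differential of the twisted complex -/
noncomputable def twD (a : A) (X : DRing.Cx A) (i : ℤ) :
    (X.X (i + 1) × X.X i) →ₗ[A] (X.X (i + 1 + 1) × X.X (i + 1)) :=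
  ((-(X.d (i + 1) (i + 1 + 1)).hom) ∘ₗ LinearMap.fst A _ _).prod
    (a • LinearMap.fst A _ _ + (X.d i (i + 1)).hom ∘ₗ LinearMap.snd A _ _)

lemma twD_apply (a : A) (X : DRing.Cx A) (i : ℤ) (z : X.X (i + 1) × X.X i) :
    twD a X i z = (-(X.d (i + 1) (i + 1 + 1)).hom z.1, a • z.1 + (X.d i (i + 1)).hom z.2) := rfl

lemma d_d (X : DRing.Cx A) (i j k : ℤ) (x : X.X i) : (X.d j k).hom ((X.d i j).hom x) = 0 :=
  LinearMap.congr_fun (congrArg ModuleCat.Hom.hom (X.d_comp_d i j k)) x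

/-- the cone of multiplication by `a` -/
noncomputable def tw (a : A) (X : DRing.Cx A) : DRing.Cx A :=
  CochainComplex.of (fun i => ModuleCat.of A (X.X (i + 1) × X.X i)) (fun i => ModuleCat.ofHom (twD a X i))
    (fun i => ModuleCat.hom_ext (LinearMap.ext fun z => by
      change twD a X (i + 1) (twD a X i z) = 0
      rw [twD_apply, twD_apply]
      simp [d_d, map_neg, smul_neg]))

lemma tw_d (a : A) (X : DRing.Cx A) (i : ℤ) (z : (tw a X).X i) :
    ((tw a X).d i (i + 1)).hom z = twD a X i z := by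
  simp [tw, CochainComplex.of.d]; rfl

/-- functoriality of the cone of a scalar -/
noncomputable def twMap {a b c : A} (hc : a = b * c) {X Y : DRing.Cx A} (w : X ⟶ Y) : tw a X ⟶ tw b Y where
  f i := ModuleCat.ofHom ((c • (w.f (i + 1)).hom).prodMap (w.f i).hom)
  comm' i j hij := by
    obtain rfl : i + 1 = j := hij
    refine ModuleCat.hom_ext (LinearMap.ext fun z => ?_)
    change ((tw b Y).d i (i + 1)).hom (c • (w.f (i + 1)).hom z.1, (w.f i).hom z.2) =
      ((c • (w.f (i + 1 + 1)).hom).prodMap (w.f (i + 1)).hom) (((tw a X).d i (i + 1)).hom z)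
    rw [tw_d, tw_d, twD_apply, twD_apply]
    have hw : ∀ p q (x : X.X p), (Y.d p q).hom ((w.f p).hom x) = (w.f q).hom ((X.d p q).hom x) :=
      fun p q x => LinearMap.congr_fun (congrArg ModuleCat.Hom.hom (w.comm p q)) x
    simp [hw, hc, map_smul, smul_smul, map_neg, smul_neg]

lemma twMap_f {a b c : A} (hc : a = b * c) {X Y : DRing.Cx A} (w : X ⟶ Y) (i : ℤ) (z : (tw a X).X i) :
    ((twMap hc w).f i).hom z = (c • (w.f (i + 1)).hom z.1, (w.f i).hom z.2) := rfl

lemma twMap_id {a c : A} (hc : a = a * c) (h : c = 1) (X : DRing.Cx A) : twMap hc (𝟙 X) = 𝟙 (tw a X) := by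
  subst h
  refine HomologicalComplex.hom_ext _ _ fun i => ModuleCat.hom_ext (LinearMap.ext fun z => ?_)
  rw [twMap_f]
  simp

lemma twMap_comp {a b d c c' c'' : A} (h : a = b * c) (h' : b = d * c') (h'' : a = d * c'') (e : c'' = c * c')
    {X Y Z : DRing.Cx A} (w : X ⟶ Y) (w' : Y ⟶ Z) :
    twMap h'' (w ≫ w') = twMap h w ≫ twMap h' w' := by
  subst e
  refine HomologicalComplex.hom_ext _ _ fun i => ModuleCat.hom_ext (LinearMap.ext fun z => ?_)
  rw [twMap_f]
  simp only [HomologicalComplex.comp_f, ModuleCat.hom_comp, LinearMap.comp_apply, twMap_f, map_smul,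
    smul_smul, mul_comm c c']

/-- the projection to a complex killed by the scalar -/
noncomputable def twDesc {a : A} {X Y : DRing.Cx A} (w : X ⟶ Y) (h : ∀ i (x : X.X i), a • (w.f i).hom x = 0) :
    tw a X ⟶ Y where
  f i := ModuleCat.ofHom ((w.f i).hom ∘ₗ LinearMap.snd A _ _)
  comm' i j hij := by
    obtain rfl : i + 1 = j := hij
    refine ModuleCat.hom_ext (LinearMap.ext fun z => ?_)
    change (Y.d i (i + 1)).hom ((w.f i).hom z.2) = (w.f (i + 1)).hom (((tw a X).d i (i + 1)).hom z).2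
    rw [tw_d, twD_apply, map_add, map_smul, h, zero_add]
    exact LinearMap.congr_fun (congrArg ModuleCat.Hom.hom (w.comm i (i + 1))) z.2

lemma twDesc_f {a : A} {X Y : DRing.Cx A} (w : X ⟶ Y) (h : ∀ i (x : X.X i), a • (w.f i).hom x = 0) (i : ℤ)
    (z : (tw a X).X i) : ((twDesc w h).f i).hom z = (w.f i).hom z.2 := rfl

/-- the scalar kills its cone up to homotopy -/
noncomputable def twHomotopy (a : A) (X : DRing.Cx A) : Homotopy (a • 𝟙 (tw a X)) 0 := by
  let hom : ∀ i j : ℤ, (ComplexShape.up ℤ).Rel j i → ((tw a X).X i ⟶ (tw a X).X j) := fun i j hij =>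
    (show j + 1 = i from hij) ▸ ModuleCat.ofHom ((LinearMap.snd A (X.X (j + 1 + 1)) (X.X (j + 1))).prod 0)
  refine (Homotopy.ofEq ?_).trans (Homotopy.nullHomotopy' hom)
  refine HomologicalComplex.hom_ext _ _ fun i => ?_
  obtain ⟨j, rfl⟩ : ∃ j, i = j + 1 := ⟨i - 1, by omega⟩
  refine ModuleCat.hom_ext (LinearMap.ext fun z => ?_)
  rw [Homotopy.nullHomotopicMap'_f (show (ComplexShape.up ℤ).Rel j (j + 1) from rfl)
    (show (ComplexShape.up ℤ).Rel (j + 1) (j + 1 + 1) from rfl)]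
  change a • z = (show (tw a X).X (j + 1) from ((((tw a X).d (j + 1) (j + 1 + 1)).hom z).2, (0 : X.X (j + 1)))) +
    ((tw a X).d j (j + 1)).hom ((z.2, (0 : X.X j)) : X.X (j + 1) × X.X j)
  rw [tw_d, tw_d, twD_apply, twD_apply]
  simp only [map_zero, add_zero]
  refine Prod.ext ?_ ?_
  · change a • z.1 = (a • z.1 + (X.d (j + 1) (j + 1 + 1)).hom z.2) + -(X.d (j + 1) (j + 1 + 1)).hom z.2
    abel
  · change a • z.2 = 0 + a • z.2
    abel

/-- homotopies for scalars pass to the cone -/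
noncomputable def twScalarHomotopy {a b : A} {X : DRing.Cx A} (h : Homotopy (b • 𝟙 X) 0) :
    Homotopy (b • 𝟙 (tw a X)) 0 := by
  let hom : ∀ i j : ℤ, (ComplexShape.up ℤ).Rel j i → ((tw a X).X i ⟶ (tw a X).X j) := fun i j hij =>
    (show j + 1 = i from hij) ▸ ModuleCat.ofHom
      ((-(h.hom (j + 1 + 1) (j + 1)).hom).prodMap (h.hom (j + 1) j).hom)
  refine (Homotopy.ofEq ?_).trans (Homotopy.nullHomotopy' hom)
  refine HomologicalComplex.hom_ext _ _ fun i => ?_
  obtain ⟨j, rfl⟩ : ∃ j, i = j + 1 := ⟨i - 1, by omega⟩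
  refine ModuleCat.hom_ext (LinearMap.ext fun z => ?_)
  rw [Homotopy.nullHomotopicMap'_f (show (ComplexShape.up ℤ).Rel j (j + 1) from rfl)
    (show (ComplexShape.up ℤ).Rel (j + 1) (j + 1 + 1) from rfl)]
  have hh : ∀ (p q r : ℤ) (_ : p + 1 = q) (_ : q + 1 = r) (x : X.X q),
      (h.hom r q).hom ((X.d q r).hom x) + (X.d p q).hom ((h.hom q p).hom x) = b • x := by
    intro p q r e₁ e₂ x
    have := h.comm q
    rw [dNext_eq _ (show (ComplexShape.up ℤ).Rel q r from e₂), prevD_eq _ (show (ComplexShape.up ℤ).Rel p q from e₁)] at this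
    have := LinearMap.congr_fun (congrArg ModuleCat.Hom.hom this) x
    simpa using this.symm
  let z' : X.X (j + 1 + 1) × X.X (j + 1) := z
  let w₁ : X.X (j + 1 + 1 + 1) × X.X (j + 1 + 1) := twD a X (j + 1) z'
  let w₂ : (tw a X).X j := (-(h.hom (j + 1 + 1) (j + 1)).hom z'.1, (h.hom (j + 1) j).hom z'.2)
  change b • z = (show (tw a X).X (j + 1) from ((-(h.hom (j + 1 + 1 + 1) (j + 1 + 1)).hom (((tw a X).d (j + 1) (j + 1 + 1)).hom z).1,
      (h.hom (j + 1 + 1) (j + 1)).hom (((tw a X).d (j + 1) (j + 1 + 1)).hom z).2) :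
        X.X (j + 1 + 1) × X.X (j + 1))) + ((tw a X).d j (j + 1)).hom w₂
  rw [tw_d, tw_d, twD_apply, twD_apply]
  refine Prod.ext ?_ ?_
  · simp only [w₂, z', Prod.fst_add, map_neg, neg_neg]
    exact (hh _ _ _ rfl rfl z.1).symm
  · change b • z.2 = (h.hom (j + 1 + 1) (j + 1)).hom (a • z.1 + (X.d (j + 1) (j + 1 + 1)).hom z.2) +
      (a • -(h.hom (j + 1 + 1) (j + 1)).hom z.1 + (X.d j (j + 1)).hom ((h.hom (j + 1) j).hom z.2))
    simp only [map_add, map_smul, smul_neg]
    refine (hh _ _ _ rfl rfl z.2).symm.trans ?_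
    abel

end Groth.Agent.ProTor
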